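import Mathlib
import Groth.Prelude.Def_Koszul
import Groth.Agent.Lib.Helper5.HomCx.ConeTensor

set_option autoImplicit false
set_option linter.unusedSectionVars false
set_option linter.unusedVariables false
universe u
open CategoryTheory CategoryTheory.Limits MonoidalCategory CochainComplex CochainComplex.HomComplex

namespace Groth.Agent.Lib.Helper5.HomCx

variable {A : Type u} [CommRing A]

theorem cone_map_eq_id {K L : DRing.Cx A} (φ : K ⟶ L) (a : K ⟶ K) (b : L ⟶ L) (ha : a = 𝟙 _)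
    (hb : b = 𝟙 _) (comm : φ ≫ b = a ≫ φ) : mappingCone.map φ φ a b comm = 𝟙 _ := by
  subst ha hb
  exact mappingCone.map_id φ

/-- isomorphic squares have isomorphic cones -/
noncomputable def coneMapIso {K₁ L₁ K₂ L₂ : DRing.Cx A} (φ₁ : K₁ ⟶ L₁) (φ₂ : K₂ ⟶ L₂)
    (a : K₁ ≅ K₂) (b : L₁ ≅ L₂) (comm : φ₁ ≫ b.hom = a.hom ≫ φ₂) :
    mappingCone φ₁ ≅ mappingCone φ₂ where
  hom := mappingCone.map φ₁ φ₂ a.hom b.hom comm
  inv := mappingCone.map φ₂ φ₁ a.inv b.inv (by
    rw [← cancel_epi a.hom, ← Category.assoc, ← comm, Category.assoc, b.hom_inv_id,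
      Category.comp_id, a.hom_inv_id_assoc])
  hom_inv_id := by
    rw [← mappingCone.map_comp]
    exact cone_map_eq_id _ _ _ a.hom_inv_id b.hom_inv_id _
  inv_hom_id := by
    rw [← mappingCone.map_comp]
    exact cone_map_eq_id _ _ _ a.inv_hom_id b.inv_hom_id _

theorem smul_id_whiskerRight (a : A) (X L : DRing.Cx A) :
    (a • 𝟙 X) ▷ L = a • 𝟙 (X ⊗ L) := by
  refine tensor_hom_ext (fun p q r hpq x y => ?_)
  rw [ι_whiskerRight, ModuleCat.hom_comp, LinearMap.comp_apply]
  erw [ModuleCat.MonoidalCategory.whiskerRight_apply]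
  rw [HomologicalComplex.smul_f_apply, HomologicalComplex.id_f, ModuleCat.hom_comp,
    LinearMap.comp_apply]
  change (HomologicalComplex.ιTensorObj X L p q r hpq).hom ((a • x) ⊗ₜ[A] y) =
    a • (HomologicalComplex.ιTensorObj X L p q r hpq).hom (x ⊗ₜ[A] y)
  rw [← TensorProduct.smul_tmul', map_smul]

/-- the unit complex is the empty Koszul complex -/
noncomputable def koszulNilIso (A : Type u) [CommRing A] :
    Koszul.koszul A [] ≅ 𝟙_ (DRing.Cx A) := Iso.refl _

theorem koszul_tensor (f g : List A) :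
    Nonempty ((Koszul.koszul A f ⊗ Koszul.koszul A g : DRing.Cx A) ≅ Koszul.koszul A (f ++ g)) := by
  induction f with
  | nil =>
    exact ⟨whiskerRightIso (koszulNilIso A) _ ≪≫ λ_ _⟩
  | cons a f ih =>
    obtain ⟨e⟩ := ih
    have h1 : (a • 𝟙 (Koszul.koszul A f)) ▷ Koszul.koszul A g =
        a • 𝟙 (Koszul.koszul A f ⊗ Koszul.koszul A g : DRing.Cx A) :=
      smul_id_whiskerRight a _ _
    refine ⟨(coneTensorIso (a • 𝟙 (Koszul.koszul A f)) (Koszul.koszul A g)).symm ≪≫
      coneMapIso _ (a • 𝟙 (Koszul.koszul A (f ++ g))) e e ?_⟩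
    rw [h1, Linear.smul_comp, Linear.comp_smul, Category.id_comp, Category.comp_id]

end Groth.Agent.Lib.Helper5.HomCx
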